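import Cfsg.Prelude.Def_G2
import Mathlib

/-!
The centraliser of the standard involution of the automorphism group of Zorn's vector matrix algebra:
it consists of the maps `(M, Y) ↦ (A M A⁻¹, B Y A⁻¹)`, `det A = det B`, where the algebra is written as
pairs of 2×2 matrices (the fixed quaternion subalgebra and its orthogonal complement).
-/

set_option autoImplicit false

namespace Cfsg.Agent.G2Zorn

open Matrix Cfsg.Lie

variable {F : Type*} [Field F]

/-- The quaternion component. -/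
def mH (x : Fin 8 → F) : Matrix (Fin 2) (Fin 2) F := !![x 0, x 1; x 4, x 7]

/-- The complementary component. -/
def mY (x : Fin 8 → F) : Matrix (Fin 2) (Fin 2) F := !![x 2, x 6; x 3, -x 5]

/-- Assemble a vector from its two components. -/
def enc (M Y : Matrix (Fin 2) (Fin 2) F) : Fin 8 → F :=
  ![M 0 0, M 0 1, Y 0 0, Y 1 0, M 1 0, -(Y 1 1), Y 0 1, M 1 1]

@[simp] theorem mH_enc (M Y : Matrix (Fin 2) (Fin 2) F) : mH (enc M Y) = M := by
  ext i j; fin_cases i <;> fin_cases j <;> simp [mH, enc]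

@[simp] theorem mY_enc (M Y : Matrix (Fin 2) (Fin 2) F) : mY (enc M Y) = Y := by
  ext i j; fin_cases i <;> fin_cases j <;> simp [mY, enc]

theorem enc_mH_mY (x : Fin 8 → F) : enc (mH x) (mY x) = x := by
  ext i; fin_cases i <;> simp [mH, mY, enc]

theorem enc_inj {M Y M' Y' : Matrix (Fin 2) (Fin 2) F} (h : enc M Y = enc M' Y') : M = M' ∧ Y = Y' :=
  ⟨by simpa using congrArg mH h, by simpa using congrArg mY h⟩

theorem enc_add (M Y M' Y' : Matrix (Fin 2) (Fin 2) F) : enc (M + M') (Y + Y') = enc M Y + enc M' Y' := by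
  ext i; fin_cases i <;> simp [enc]; ring

theorem enc_smul (c : F) (M Y : Matrix (Fin 2) (Fin 2) F) : enc (c • M) (c • Y) = c • enc M Y := by
  ext i; fin_cases i <;> simp [enc]

theorem mH_add (x y : Fin 8 → F) : mH (x + y) = mH x + mH y := by
  ext i j; fin_cases i <;> fin_cases j <;> simp [mH]

theorem mY_add (x y : Fin 8 → F) : mY (x + y) = mY x + mY y := by
  ext i j; fin_cases i <;> fin_cases j <;> simp [mY]; ring

theorem mH_smul (c : F) (x : Fin 8 → F) : mH (c • x) = c • mH x := by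
  ext i j; fin_cases i <;> fin_cases j <;> simp [mH]

theorem mY_smul (c : F) (x : Fin 8 → F) : mY (c • x) = c • mY x := by
  ext i j; fin_cases i <;> fin_cases j <;> simp [mY]

/-- The multiplication in terms of the two components. -/
theorem zornMul_eq (x y : Fin 8 → F) :
    zornMul x y =
      enc (mH x * mH y - (mY y).adjugate * mY x) (mY x * (mH y).adjugate + mY y * mH x) := by
  ext i
  fin_cases i <;>
    simp [zornMul, zA, zB, dot3, cross3, mH, mY, enc, adjugate_fin_two, Matrix.mul_apply,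
      Fin.sum_univ_two] <;> ring

local notation "G" => GL (Fin 2) F
local notation:1024 "↥ₘ" A:1024 => ((A : GL (Fin 2) F) : Matrix (Fin 2) (Fin 2) F)

/-- The map attached to a pair of invertible matrices. -/
def act (p : G × G) (x : Fin 8 → F) : Fin 8 → F :=
  enc (↥ₘ(p.1) * mH x * ↥ₘ(p.1⁻¹)) (↥ₘ(p.2) * mY x * ↥ₘ(p.1⁻¹))

theorem act_one (x : Fin 8 → F) : act (1 : G × G) x = x := by simp [act, enc_mH_mY]

theorem act_mul (p q : G × G) (x : Fin 8 → F) : act (p * q) x = act p (act q x) := by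
  simp [act, Matrix.mul_assoc, Units.val_mul]

theorem act_add (p : G × G) (x y : Fin 8 → F) : act p (x + y) = act p x + act p y := by
  simp only [act, mH_add, mY_add, mul_add, add_mul, enc_add]

theorem act_smul (p : G × G) (c : F) (x : Fin 8 → F) : act p (c • x) = c • act p x := by
  simp only [act, mH_smul, mY_smul, mul_smul_comm, smul_mul_assoc, enc_smul]

/-- `act` as a linear map. -/
def actL (p : G × G) : (Fin 8 → F) →ₗ[F] (Fin 8 → F) where
  toFun := act p
  map_add' := act_add p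
  map_smul' := act_smul p

theorem actL_apply (p : G × G) (x : Fin 8 → F) : actL p x = act p x := rfl

/-- `act` as a homomorphism into endomorphisms. -/
def actHom : G × G →* Module.End F (Fin 8 → F) where
  toFun := actL
  map_one' := LinearMap.ext act_one
  map_mul' p q := LinearMap.ext (act_mul p q)

/-- The homomorphism into `GL₈`. -/
noncomputable def Φ : G × G →* GL (Fin 8) F :=
  ((LinearMap.toMatrixAlgEquiv' (R := F) (n := Fin 8)).toMulEquiv.toMonoidHom.comp
    actHom).toHomUnits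

theorem Φ_mulVec (p : G × G) (x : Fin 8 → F) :
    (Units.coeHom (Matrix (Fin 8) (Fin 8) F) (Φ p)) *ᵥ x = act p x :=
  LinearMap.toMatrix'_mulVec (actL p) x

theorem ext_mulVec {g h : GL (Fin 8) F}
    (e : ∀ x, (Units.coeHom (Matrix (Fin 8) (Fin 8) F) g) *ᵥ x =
      (Units.coeHom (Matrix (Fin 8) (Fin 8) F) h) *ᵥ x) : g = h :=
  Units.ext (Matrix.ext_iff_mulVec.2 e)

variable (F) in
/-- Pairs with equal determinants. -/
noncomputable def Xg : Subgroup (G × G) :=
  ((Matrix.GeneralLinearGroup.det.comp (MonoidHom.fst G G)) /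
    (Matrix.GeneralLinearGroup.det.comp (MonoidHom.snd G G))).ker

theorem mem_Xg {p : G × G} : p ∈ Xg F ↔ (↥ₘ(p.1)).det = (↥ₘ(p.2)).det := by
  rw [Xg, MonoidHom.mem_ker, MonoidHom.div_apply, div_eq_one, Units.ext_iff]
  rfl

theorem adjugate_inv (A : G) : (↥ₘ(A⁻¹)).adjugate = (↥ₘ(A⁻¹)).det • ↥ₘ A := by
  have h : (↥ₘ(A⁻¹)).adjugate = (↥ₘ(A⁻¹)).adjugate * ↥ₘ(A⁻¹) * ↥ₘ A := by
    rw [Matrix.mul_assoc, Units.inv_mul, Matrix.mul_one]
  rw [h, adjugate_mul, smul_mul_assoc, Matrix.one_mul]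

theorem det_inv_mul (A : G) : (↥ₘ(A⁻¹)).det * (↥ₘ A).det = 1 := by
  rw [← Matrix.det_mul, Units.inv_mul, Matrix.det_one]

theorem Φ_mem {p : G × G} (hp : p ∈ Xg F) : Φ p ∈ Lie.G2 F := by
  intro x y
  simp only [Φ_mulVec]
  obtain ⟨A, B⟩ := p
  have hd : (↥ₘ A).det = (↥ₘ B).det := mem_Xg.1 hp
  set Ai := ↥ₘ(A⁻¹) with hAi
  have e1 : Ai * ↥ₘ A = 1 := Units.inv_mul _
  have hadj : Ai.adjugate = Ai.det • ↥ₘ A := adjugate_inv A
  have hdet : Ai.det * (↥ₘ A).det = 1 := det_inv_mul A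
  have hAadj : (↥ₘ A).adjugate = (↥ₘ A).det • Ai := by
    calc (↥ₘ A).adjugate = (↥ₘ A).adjugate * (↥ₘ A * Ai) := by rw [Units.mul_inv, Matrix.mul_one]
      _ = (↥ₘ A).det • Ai := by
        rw [← Matrix.mul_assoc, adjugate_mul, smul_mul_assoc, Matrix.one_mul]
  rw [zornMul_eq, zornMul_eq]
  simp only [act, mH_enc, mY_enc]
  congr 1
  · have h1 : ∀ M M' : Matrix (Fin 2) (Fin 2) F,
        (↥ₘ A * M * Ai) * (↥ₘ A * M' * Ai) = ↥ₘ A * (M * M') * Ai := fun M M' => by
      simp only [Matrix.mul_assoc]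
      rw [← Matrix.mul_assoc Ai (↥ₘ A), e1, Matrix.one_mul]
    have h2 : ∀ Y Y' : Matrix (Fin 2) (Fin 2) F,
        (↥ₘ B * Y' * Ai).adjugate * (↥ₘ B * Y * Ai) = ↥ₘ A * (Y'.adjugate * Y) * Ai := fun Y Y' => by
      rw [adjugate_mul_distrib, adjugate_mul_distrib, hadj]
      simp only [smul_mul_assoc, Matrix.mul_assoc]
      rw [← Matrix.mul_assoc (↥ₘ B).adjugate, adjugate_mul, ← hd]
      simp only [smul_mul_assoc, Matrix.one_mul, mul_smul_comm, smul_smul, hdet, one_smul]
    rw [h1, h2, mul_sub, sub_mul]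
  · have h3 : ∀ Y M : Matrix (Fin 2) (Fin 2) F,
        (↥ₘ B * Y * Ai) * (↥ₘ A * M * Ai) = ↥ₘ B * (Y * M) * Ai := fun Y M => by
      simp only [Matrix.mul_assoc]
      rw [← Matrix.mul_assoc Ai (↥ₘ A), e1, Matrix.one_mul]
    have h4 : ∀ M : Matrix (Fin 2) (Fin 2) F, (↥ₘ A * M * Ai).adjugate = ↥ₘ A * M.adjugate * Ai :=
      fun M => by
      rw [adjugate_mul_distrib, adjugate_mul_distrib, hadj, hAadj]
      simp only [smul_mul_assoc, mul_smul_comm, Matrix.mul_assoc, smul_smul]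
      rw [mul_comm (↥ₘ A).det, hdet, one_smul]
    rw [h4, h3, h3, mul_add, add_mul]

variable (F) in
/-- The standard involution. -/
noncomputable def z : GL (Fin 8) F := Φ ((1 : G), (-1 : G))

theorem z_mulVec (x : Fin 8 → F) :
    (Units.coeHom (Matrix (Fin 8) (Fin 8) F) (z F)) *ᵥ x = enc (mH x) (-(mY x)) := by
  rw [z, Φ_mulVec]
  simp [act]

theorem negOne_mem_Xg : ((1 : G), (-1 : G)) ∈ Xg F := by
  rw [mem_Xg]
  simp [Matrix.det_neg]

theorem z_ne_one (h2 : (2 : F) ≠ 0) : z F ≠ 1 := fun h => by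
  have e := z_mulVec (F := F) (enc 0 1)
  rw [h, map_one, Matrix.one_mulVec, mH_enc, mY_enc] at e
  have := congrFun (congrFun (enc_inj e).2 0) 0
  simp at this
  exact h2 (by linear_combination this)

theorem z_sq : z F * z F = 1 := by
  rw [z, ← map_mul]
  simp only [Prod.mk_mul_mk, one_mul, neg_mul_neg, Prod.mk_one_one, map_one]

theorem commute_z (p : G × G) : Φ p * z F = z F * Φ p := by
  rw [z, ← map_mul, ← map_mul]
  congr 1
  exact Prod.ext (by simp) (by simp)

theorem fst_eq_snd {p : G × G} (h : Φ p = 1) : p.1 = p.2 := by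
  have e := Φ_mulVec p (enc 0 1)
  rw [h, map_one, Matrix.one_mulVec, act, mH_enc, mY_enc] at e
  obtain ⟨-, e2⟩ := enc_inj e
  refine Units.ext ?_
  have := congrArg (· * ↥ₘ(p.1)) e2
  simpa [Matrix.mul_assoc] using this

theorem Φ_scalar_pair {a : G} {c : F} (ha : ↥ₘ a = Matrix.scalar (Fin 2) c) :
    Φ (a, a) = 1 := by
  refine ext_mulVec fun x => ?_
  rw [Φ_mulVec, map_one, Matrix.one_mulVec, act]
  have h : ∀ M : Matrix (Fin 2) (Fin 2) F, ↥ₘ a * M * ↥ₘ(a⁻¹) = M := fun M => by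
    rw [ha, (Matrix.scalar_commute c (fun r' => Commute.all c r') M).eq, Matrix.mul_assoc, ← ha,
      Units.mul_inv, Matrix.mul_one]
  dsimp only
  rw [h, h, enc_mH_mY]

/-! ### Surjectivity onto the centraliser -/

theorem single_eq (i j : Fin 2) (M : Matrix (Fin 2) (Fin 2) F) :
    Matrix.single i j (M i j) = M i j • Matrix.single i j 1 := by
  rw [Matrix.smul_single, smul_eq_mul, mul_one]

/-- A linear, injective, multiplicative self-map of the 2×2 matrices is a conjugation. -/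
theorem exists_conj_of_hom (f : Matrix (Fin 2) (Fin 2) F → Matrix (Fin 2) (Fin 2) F)
    (hadd : ∀ M N, f (M + N) = f M + f N) (hsmul : ∀ (c : F) M, f (c • M) = c • f M)
    (hmul : ∀ M N, f (M * N) = f M * f N) (hinj : Function.Injective f) :
    ∃ A : G, ∀ M, f M = ↥ₘ A * M * ↥ₘ(A⁻¹) := by
  let fl : Matrix (Fin 2) (Fin 2) F →ₗ[F] Matrix (Fin 2) (Fin 2) F :=
    { toFun := f, map_add' := hadd, map_smul' := hsmul }
  have h0 : f 0 = 0 := map_zero fl
  have h11 : f (Matrix.single 0 0 1) ≠ 0 := fun h => by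
    have := congrFun (congrFun (hinj (h.trans h0.symm)) 0) 0
    simp at this
  obtain ⟨r, k, hrk⟩ : ∃ r k, f (Matrix.single 0 0 1) r k ≠ 0 := by
    by_contra hne
    push Not at hne
    exact h11 (Matrix.ext hne)
  let C : Matrix (Fin 2) (Fin 2) F := Matrix.single k 0 1
  let A : Matrix (Fin 2) (Fin 2) F := f (Matrix.single 0 0 1) * C * Matrix.single 0 0 1 +
    f (Matrix.single 1 0 1) * C * Matrix.single 0 1 1
  have hbase : ∀ a b : Fin 2, f (Matrix.single a b 1) * A = A * Matrix.single a b 1 := by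
    intro a b
    fin_cases a <;> fin_cases b <;>
      simp [A, Matrix.mul_add, Matrix.add_mul, ← Matrix.mul_assoc, ← hmul, h0] <;>
      simp [Matrix.mul_assoc]
  have hall : ∀ M, f M * A = A * M := fun M => by
    have e : M = M 0 0 • Matrix.single 0 0 1 + M 0 1 • Matrix.single 0 1 1 +
        M 1 0 • Matrix.single 1 0 1 + M 1 1 • Matrix.single 1 1 1 := by
      ext i j; fin_cases i <;> fin_cases j <;> simp [Matrix.single]
    conv_lhs => rw [e]
    conv_rhs => rw [e]
    simp only [hadd, hsmul, add_mul, mul_add, smul_mul_assoc, mul_smul_comm, hbase]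
  have hA0 : A r 0 ≠ 0 := by
    fin_cases k <;> simpa [A, C, Matrix.mul_apply, Fin.sum_univ_two, Matrix.single] using hrk
  have hdet : A.det ≠ 0 := by
    intro hd
    obtain ⟨v, hv, hAv⟩ := Matrix.exists_mulVec_eq_zero_iff.2 hd
    obtain ⟨j, hj⟩ := Function.ne_iff.1 hv
    have e := hall (Matrix.single 0 j ((v j)⁻¹))
    have e' := congrArg (fun N => N *ᵥ v) e
    simp only [← Matrix.mulVec_mulVec, hAv, Matrix.mulVec_zero] at e'
    have e'' := congrFun e'.symm r
    simp [Matrix.mulVec, dotProduct, Fin.sum_univ_two, Matrix.single] at e''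
    fin_cases j <;> simp_all [Matrix.mulVec, dotProduct, Fin.sum_univ_two]
  refine ⟨Matrix.GeneralLinearGroup.mkOfDetNeZero A hdet, fun M => ?_⟩
  have hc : ↥ₘ(Matrix.GeneralLinearGroup.mkOfDetNeZero A hdet) = A := rfl
  calc f M = f M * (↥ₘ(Matrix.GeneralLinearGroup.mkOfDetNeZero A hdet) *
        ↥ₘ((Matrix.GeneralLinearGroup.mkOfDetNeZero A hdet)⁻¹)) := by rw [Units.mul_inv, mul_one]
    _ = _ := by rw [← mul_assoc, hc, hall]

theorem exists_preimage (h2 : (2 : F) ≠ 0) {g : GL (Fin 8) F} (hg : g ∈ Lie.G2 F)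
    (hz : g * z F = z F * g) : ∃ p ∈ Xg F, Φ p = g := by
  set L : (Fin 8 → F) → (Fin 8 → F) :=
    fun x => (Units.coeHom (Matrix (Fin 8) (Fin 8) F) g) *ᵥ x with hL
  have hmulL : ∀ x y, L (zornMul x y) = zornMul (L x) (L y) := hg
  have haddL : ∀ x y, L (x + y) = L x + L y := fun x y => Matrix.mulVec_add _ x y
  have hsmulL : ∀ (c : F) x, L (c • x) = c • L x := fun c x => Matrix.mulVec_smul _ c x
  have hinjL : Function.Injective L := fun x y h => by
    have := congrArg (fun v => (Units.coeHom (Matrix (Fin 8) (Fin 8) F) g⁻¹) *ᵥ v) h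
    simpa [hL, Matrix.mulVec_mulVec] using this
  have hsurjL : Function.Surjective L := fun x =>
    ⟨(Units.coeHom (Matrix (Fin 8) (Fin 8) F) g⁻¹) *ᵥ x, by
      simp [hL, Matrix.mulVec_mulVec]⟩
  have hzL : ∀ x, enc (mH (L x)) (-(mY (L x))) = L (enc (mH x) (-(mY x))) := fun x => by
    rw [← z_mulVec, ← z_mulVec, hL]
    simp only [Matrix.mulVec_mulVec, ← map_mul, hz]
  have hdbl : ∀ M : Matrix (Fin 2) (Fin 2) F, M = -M → M = 0 := fun M h => by
    ext i j
    have e := congrFun (congrFun h i) j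
    simp at e
    exact (mul_eq_zero.1 (show (2 : F) * M i j = 0 by linear_combination e)).resolve_left h2
  have hneg : ∀ x, L (-x) = -(L x) := fun x => Matrix.mulVec_neg _ _
  have hH : ∀ M, L (enc M 0) = enc (mH (L (enc M 0))) 0 := fun M => by
    have e := hzL (enc M 0)
    rw [mH_enc, mY_enc, neg_zero] at e
    have e2 := congrArg mY e
    rw [mY_enc] at e2
    conv_lhs => rw [← enc_mH_mY (L (enc M 0)), hdbl _ e2.symm]
  have hY : ∀ Y, L (enc 0 Y) = enc 0 (mY (L (enc 0 Y))) := fun Y => by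
    have hn : enc (0 : Matrix (Fin 2) (Fin 2) F) (-Y) = -(enc 0 Y) := by
      have := enc_smul (-1 : F) 0 Y
      simpa using this
    have e := hzL (enc 0 Y)
    rw [mH_enc, mY_enc, hn, hneg] at e
    have e2 := congrArg mH e
    rw [mH_enc, ← neg_one_smul F (L _), mH_smul, neg_one_smul] at e2
    conv_lhs => rw [← enc_mH_mY (L (enc 0 Y)), hdbl _ e2]
  set f : Matrix (Fin 2) (Fin 2) F → Matrix (Fin 2) (Fin 2) F := fun M => mH (L (enc M 0)) with hf
  have hadjz : (0 : Matrix (Fin 2) (Fin 2) F).adjugate = 0 := by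
    ext i j; fin_cases i <;> fin_cases j <;> simp [adjugate_fin_two]
  have hfmul : ∀ M N, f (M * N) = f M * f N := fun M N => by
    have e : zornMul (enc M 0) (enc N 0) = enc (M * N) 0 := by simp [zornMul_eq, hadjz]
    calc f (M * N) = mH (zornMul (L (enc M 0)) (L (enc N 0))) := by rw [← hmulL, e]
      _ = mH (zornMul (enc (f M) 0) (enc (f N) 0)) := by rw [← hH M, ← hH N]
      _ = f M * f N := by simp [zornMul_eq, hadjz]
  have hfinj : Function.Injective f := fun M N h => by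
    refine (enc_inj (hinjL (?_ : L (enc M 0) = L (enc N 0)))).1
    rw [hH M, hH N]
    exact congrArg (fun X => enc X 0) h
  obtain ⟨A, hA⟩ := exists_conj_of_hom f (fun M N => by
      simp only [hf]; rw [← mH_add, ← haddL, ← enc_add, add_zero])
    (fun c M => by simp only [hf]; rw [← mH_smul, ← hsmulL, ← enc_smul, smul_zero])
    hfmul hfinj
  have hf1 : f 1 = 1 := by rw [hA, mul_one, Units.mul_inv]
  set Y1 := mY (L (enc 0 1)) with hY1
  have hd1 : Y1.det = 1 := by
    have e : zornMul (enc 0 1) (enc 0 1) = (-1 : F) • (enc (1 : Matrix (Fin 2) (Fin 2) F) 0) := by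
      rw [← enc_smul]; simp [zornMul_eq, hadjz]
    have e' := congrArg (fun v => mH (L v)) e
    rw [hmulL, hsmulL, mH_smul, hY 1, ← hY1, show mH (L (enc 1 0)) = f 1 from rfl, hf1] at e'
    simp [zornMul_eq, hadjz, adjugate_mul] at e'
    have := congrFun (congrFun e' 0) 0
    simpa using this
  have hgen : ∀ M, L (enc 0 M) = enc 0 (Y1 * f M) := fun M => by
    have e : zornMul (enc M 0) (enc 0 1) = enc 0 M := by simp [zornMul_eq, hadjz]
    rw [← e, hmulL, hH M, hY 1]
    simp [zornMul_eq, hadjz, ← hY1, hf]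
  have hBdet : (Y1 * ↥ₘ A).det ≠ 0 := by
    rw [Matrix.det_mul, hd1, one_mul]; exact A.det_ne_zero
  let B : G := Matrix.GeneralLinearGroup.mkOfDetNeZero (Y1 * ↥ₘ A) hBdet
  have hB : ↥ₘ B = Y1 * ↥ₘ A := rfl
  refine ⟨(A, B), mem_Xg.2 (by rw [hB, Matrix.det_mul, hd1, one_mul]), ext_mulVec fun x => ?_⟩
  rw [Φ_mulVec]
  show act (A, B) x = L x
  conv_rhs => rw [← enc_mH_mY x, show enc (mH x) (mY x) = enc (mH x) 0 + enc 0 (mY x) by
    rw [← enc_add, add_zero, zero_add], haddL, hH, hgen]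
  rw [← enc_add, zero_add, add_zero, act]
  simp only [← hA, hB, Matrix.mul_assoc, hf]

end Cfsg.Agent.G2Zorn
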